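import Mathlib
import Cfsg.Prelude.Def_DegreeGraph
import Cfsg.Agent.Lib.GL2Char.SLTable

/-!
# Complements on `SL₂(F)`: the case of three elements, unipotent classes, degrees of `PSL₂`
-/

set_option autoImplicit false
set_option linter.unusedSectionVars false

namespace H62.GL2

open Cfsg Matrix
open scoped ComplexConjugate MatrixGroups

variable {F : Type*} [Field F] [Fintype F] [DecidableEq F]

theorem sq_eq_one_of_card_three (h3 : Fintype.card F = 3) (a : Fˣ) : a = a⁻¹ := by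
  have h := pow_card_eq_one (G := Fˣ) (x := a)
  rwa [Fintype.card_units, h3, show 3 - 1 = 2 from rfl, sq, mul_eq_one_iff_eq_inv] at h

variable {K : Type*} [Field K] [Fintype K] [DecidableEq K] [Algebra F K]
  (ι : K →ₐ[F] Matrix (Fin 2) (Fin 2) F) [hK : Fact (Fintype.card K = Fintype.card F ^ 2)]

theorem hom_add_inv_of_card_three (h3 : Fintype.card F = 3) {η : normOne F K →* ℂˣ}
    (h : η ≠ η⁻¹) {x : normOne F K} (hx : x ^ 2 ≠ 1) : (η x : ℂ) + ((η x)⁻¹ : ℂˣ) = 0 := by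
  have hc : Nat.card (normOne F K) = 2 ^ 2 := by rw [card_normOne, h3]; norm_num
  have h4 : x ^ 2 ^ (1 + 1) = 1 := by rw [← hc]; exact pow_card_eq_one'
  have ho : orderOf x = 2 ^ (1 + 1) := orderOf_eq_prime_pow (by simpa using hx) h4
  have htop : Subgroup.zpowers x = ⊤ := by
    apply Subgroup.eq_top_of_card_eq
    rw [Nat.card_zpowers, ho, hc]
  have h5 : η x ≠ (η x)⁻¹ := by
    intro h6
    apply h
    refine MonoidHom.eq_of_eqOn_dense (s := {x}) (by rw [← Subgroup.zpowers_eq_closure, htop]) ?_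
    rintro _ rfl
    exact h6
  have h6 : (η x : ℂ) ^ 4 = 1 := by
    rw [← Units.val_pow_eq_pow_val, ← map_pow, show x ^ 4 = 1 from h4, map_one, Units.val_one]
  have h7 : (η x : ℂ) ^ 2 - 1 ≠ 0 := by
    intro h8
    apply h5
    rw [← mul_eq_one_iff_eq_inv]
    apply Units.ext
    rw [Units.val_mul, Units.val_one]
    linear_combination h8
  have h8 : (η x : ℂ) ^ 2 + 1 = 0 := by
    apply mul_left_cancel₀ h7
    linear_combination h6
  apply mul_left_cancel₀ (η x).ne_zero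
  rw [mul_add, Units.mul_inv]
  linear_combination h8

theorem cuS_ell_of_card_three (h3 : Fintype.card F = 3) {η : normOne F K →* ℂˣ}
    (h : η ≠ η⁻¹) {g : SL(2, F)} (hg : IsEll g.1) : cuS ι η g = 0 := by
  obtain ⟨x, y, hx, rfl⟩ := exists_cj_elS ι hg
  rw [cuS_cj, cuS_elS _ _ _ hx, hom_add_inv_of_card_three h3 h hx, neg_zero]

theorem psS_ell (α : MulChar F ℂ) {g : SL(2, F)} (hg : IsEll g.1) : psS α g = 0 := by
  rw [psS_eq_res, res_apply, ps_ell _ _ hg]

theorem HalfPair.psS_ell {α : MulChar F ℂ} {χ χ' : SL(2, F) → ℂ} (h : HalfPair (psS α) χ χ')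
    {g : SL(2, F)} (hg : IsEll g.1) : χ g = 0 := by
  classical
  obtain ⟨K, _, _, _, _, ⟨ι⟩⟩ := exists_quad F
  rw [h.apply_of_isSemi (isSemi_of_isEll ι hg), GL2.psS_ell _ hg, zero_div]

/-! ### Unipotent elements -/

theorem sub_one_sq_of_pow_char {p : ℕ} [Fact p.Prime] [CharP F p] {A : Matrix (Fin 2) (Fin 2) F}
    (h : A ^ p = 1) : A.trace = 2 ∧ A.det = 1 := by
  have h1 : IsNilpotent (A - 1) :=
    ⟨p, by rw [sub_pow_char_of_commute _ (Commute.one_right A), h, one_pow, sub_self]⟩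
  have h2 := (Matrix.isNilpotent_trace_of_isNilpotent h1).eq_zero
  have h3 : (A - 1).det = 0 := by
    obtain ⟨n, hn⟩ := h1
    have := congrArg Matrix.det hn
    rw [det_pow, det_zero] at this
    exact eq_zero_of_pow_eq_zero this
  rw [trace_fin_two] at h2 ⊢
  rw [det_fin_two] at h3 ⊢
  simp only [Matrix.sub_apply, one_apply_eq, ne_eq, zero_ne_one, not_false_eq_true, one_apply_ne,
    one_ne_zero, sub_zero] at h2 h3
  constructor
  · linear_combination h2
  · linear_combination h3 + h2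

theorem isConj_uu_of_orderOf {p : ℕ} [Fact p.Prime] [CharP F p] {g : GL (Fin 2) F}
    (h : orderOf g = p) : IsConj g (uu F) := by
  have h1 : g.val ^ p = 1 := by
    rw [← Units.val_pow_eq_pow_val, ← h, pow_orderOf_eq_one, Units.val_one]
  obtain ⟨h2, h3⟩ := sub_one_sq_of_pow_char h1
  refine isConj_of_trace_det (fun hs => ?_) (by simp [uu, isSc_ut]) (by rw [h2, uu, trace_ut]; norm_num)
    (by rw [h3, uu, det_ut]; simp)
  obtain ⟨a, rfl⟩ := exists_eq_scalar g hs
  rw [coe_ut_scalar, smul_pow, one_pow] at h1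
  have h4 : (a : F) ^ p = 1 := by simpa using congrFun (congrFun h1 0) 0
  have h5 : (a : F) = 1 := by
    rw [← sub_eq_zero, ← pow_eq_zero_iff (Fact.out : p.Prime).ne_zero, sub_pow_char, h4, one_pow,
      sub_self]
  rw [show a = 1 from Units.ext h5, ut_one, orderOf_one] at h
  exact (Fact.out : p.Prime).one_lt.ne h

theorem utS_one_pow (b : F) (n : ℕ) : utS 1 b ^ n = utS 1 (n * b) := by
  induction n with
  | zero => simp [utS_one_zero]
  | succ n ih =>
    apply tg_injective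
    rw [pow_succ, ih, map_mul, tg_utS, tg_utS, tg_utS, ut_mul]
    simp [add_mul, add_comm]

theorem utS_inj {a a' : Fˣ} {b b' : F} : utS a b = utS a' b' ↔ a = a' ∧ b = b' := by
  constructor
  · intro h
    have := congrArg tg h
    rw [tg_utS, tg_utS, ut_inj] at this
    exact ⟨this.1, this.2.1⟩
  · rintro ⟨rfl, rfl⟩
    rfl

theorem orderOf_utS_one {p : ℕ} [Fact p.Prime] [CharP F p] {b : F} (hb : b ≠ 0) :
    orderOf (utS 1 b) = p := by
  refine orderOf_eq_prime (by rw [utS_one_pow, CharP.cast_eq_zero, zero_mul, utS_one_zero]) ?_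
  rw [← utS_one_zero, Ne, utS_inj]
  simp [hb]

theorem coe_utS_one (b : F) : (utS 1 b).1 = !![(1 : F), b; 0, 1] := by
  simp [utS, coe_ut]

theorem isConj_utS_one_iff {b b' : F} (hb : b ≠ 0) (hb' : b' ≠ 0) :
    IsConj (utS 1 b) (utS 1 b') ↔ IsSquare (b * b') := by
  constructor
  · intro h
    obtain ⟨t, ht⟩ := isConj_iff.1 h
    rw [mul_inv_eq_iff_eq_mul] at ht
    have h1 : t.1 * !![(1 : F), b; 0, 1] = !![(1 : F), b'; 0, 1] * t.1 := by
      rw [← coe_utS_one, ← coe_utS_one]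
      exact congrArg Subtype.val ht
    have h2 := t.2
    rw [det_fin_two] at h2
    have h3 := congrFun (congrFun h1 0) 0
    have h4 := congrFun (congrFun h1 0) 1
    simp [Matrix.mul_apply, Fin.sum_univ_two, hb'] at h3 h4
    refine ⟨b' * t.1 1 1, ?_⟩
    rw [h3] at h2
    linear_combination -b * b' * h2 + b' * t.1 1 1 * h4
  · intro h
    have h1 : utS 1 b' = cj (ut (Units.mk0 (b' / b) (div_ne_zero hb' hb)) 0 1) (utS 1 b) := by
      rw [cj_diag_utS, Units.val_mk0, div_mul_cancel₀ _ hb]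
    rw [h1]
    apply isConj_cj_of_isSquare
    obtain ⟨c, hc⟩ := h
    refine ⟨c / b, ?_⟩
    rw [det_ut, Units.val_mk0, Units.val_one, mul_one]
    field_simp
    linear_combination hc

theorem exists_isConj_utS_one {g : SL(2, F)} (h : IsConj (tg g) (uu F)) :
    ∃ b : F, b ≠ 0 ∧ IsConj (utS 1 b) g := by
  obtain ⟨y, hy⟩ := exists_cj_of_isConj (s := uS F) (t := g) (by rw [tg_uS]; exact h.symm)
  obtain ⟨t, ht⟩ := exists_tg_eq (g := y * (ut (GeneralLinearGroup.det y) 0 1)⁻¹)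
    (by simp [glDet_ut])
  have h1 : y = tg t * ut (GeneralLinearGroup.det y) 0 1 := by rw [ht, inv_mul_cancel_right]
  refine ⟨(GeneralLinearGroup.det y : Fˣ), Units.ne_zero _, isConj_iff.2 ⟨t, ?_⟩⟩
  rw [← hy]
  conv_rhs => rw [h1, cj_mul, cj_tg, uS, cj_diag_utS, mul_one]

theorem card_centralizer_utS_one {b : F} (hb : b ≠ 0) :
    Nat.card (Subgroup.centralizer ({utS 1 b} : Set SL(2, F))) =
      Nat.gcd (Fintype.card F - 1) 2 * Fintype.card F := by
  have h1 : Nat.card {a : Fˣ // a ^ 2 = 1} = Nat.gcd (Fintype.card F - 1) 2 := by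
    rw [← Fintype.card_units, ← Nat.card_eq_fintype_card, ← IsCyclic.card_powMonoidHom_ker]
    rfl
  rw [← h1, ← Nat.card_eq_fintype_card, ← Nat.card_prod]
  symm
  refine Nat.card_congr (Equiv.ofBijective (fun p => ⟨utS p.1.1 p.2, ?_⟩) ⟨?_, ?_⟩)
  · rw [Subgroup.mem_centralizer_singleton_iff]
    apply tg_injective
    have : p.1.1⁻¹ = p.1.1 := inv_eq_of_mul_eq_one_right (by rw [← sq, p.1.2])
    rw [map_mul, map_mul, tg_utS, tg_utS, ut_mul, ut_mul, this, ut_inj]
    simp [add_comm, mul_comm]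
  · rintro ⟨a, c⟩ ⟨a', c'⟩ h
    have := utS_inj.1 (congrArg Subtype.val h)
    exact Prod.ext (Subtype.ext this.1) this.2
  · rintro ⟨t, ht⟩
    rw [Subgroup.mem_centralizer_singleton_iff] at ht
    have h1 : t.1 * !![(1 : F), b; 0, 1] = !![(1 : F), b; 0, 1] * t.1 := by
      rw [← coe_utS_one]
      exact congrArg Subtype.val ht
    have h3 := congrFun (congrFun h1 0) 0
    have h4 := congrFun (congrFun h1 0) 1
    simp [Matrix.mul_apply, Fin.sum_univ_two, hb] at h3 h4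
    obtain ⟨a, h5, h6, h7⟩ := exists_eq_utS t h3
    refine ⟨(⟨a, ?_⟩, t.1 0 1), Subtype.ext h5.symm⟩
    rw [sq, mul_eq_one_iff_eq_inv]
    apply Units.ext
    rw [h6, h7]
    apply mul_left_cancel₀ hb
    linear_combination h4

theorem card_carrier_mul {G : Type*} [Group G] [Finite G] (g : G) :
    Nat.card (ConjClasses.mk g).carrier * Nat.card (Subgroup.centralizer ({g} : Set G)) =
      Nat.card G := by
  rw [← Subgroup.index_mul_card (Subgroup.centralizer ({g} : Set G)), ← H6.card_isConj_eq_index]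
  congr 1

theorem card_SL_nat : Nat.card SL(2, F) = (Fintype.card F ^ 2 - 1) * Fintype.card F := by
  apply Nat.cast_injective (R := ℂ)
  rw [card_SL_cast]
  push_cast [Nat.cast_sub (Nat.one_le_pow 2 _ Fintype.card_pos)]
  ring

theorem card_carrier_unipotent {g : SL(2, F)} (h : IsConj (tg g) (uu F)) :
    Nat.card (ConjClasses.mk g).carrier * Nat.gcd (Fintype.card F - 1) 2 =
      Fintype.card F ^ 2 - 1 := by
  obtain ⟨b, hb, h1⟩ := exists_isConj_utS_one h
  have h2 := card_carrier_mul g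
  rw [← card_centralizer_eq_of_isConj h1, card_centralizer_utS_one hb, card_SL_nat,
    ← mul_assoc] at h2
  exact Nat.eq_of_mul_eq_mul_right Fintype.card_pos h2

/-! ### Degrees of `PSL₂` -/

theorem mem_center_iff_neg {z : SL(2, F)} : z ∈ Subgroup.center SL(2, F) ↔ z = 1 ∨ z = -1 := by
  rw [Matrix.SpecialLinearGroup.mem_center_iff]
  constructor
  · rintro ⟨r, h1, h2⟩
    rw [Fintype.card_fin, sq_eq_one_iff] at h1
    rcases h1 with rfl | rfl
    · exact Or.inl (Subtype.ext (by rw [← h2]; simp))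
    · exact Or.inr (Subtype.ext (by rw [← h2, map_neg, map_one]; rfl))
  · rintro (rfl | rfl)
    · exact ⟨1, by simp, by simp⟩
    · exact ⟨-1, by simp, by rw [map_neg, map_one]; rfl⟩

theorem charDegree_eq {G : Type*} [Group G] {χ : G → ℂ} {n : ℕ} (h : χ 1 = n) :
    charDegree χ = n := by
  simp [charDegree, h]

theorem cast_charDegree {G : Type*} [Group G] {χ : G → ℂ} (h : IsIrrCharacter G χ) :
    χ 1 = charDegree χ := by
  obtain ⟨n, -, hn⟩ := H6.irr_one_pos h
  rw [charDegree_eq hn, hn]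

theorem mem_charDegrees_of_irr {G : Type*} [Group G] {χ : G → ℂ} (h : IsIrrCharacter G χ) {n : ℕ}
    (hn : χ 1 = n) : n ∈ charDegrees G := ⟨⟨χ, h⟩, charDegree_eq hn⟩

theorem charDegrees_subset_of_surjective {G H : Type*} [Group G] [Group H] (f : G →* H)
    (hf : Function.Surjective f) : charDegrees H ⊆ charDegrees G := by
  rintro _ ⟨χ, rfl⟩
  exact mem_charDegrees_of_irr (H6.isIrrCharacter_comp_surjective f hf χ.2)
    (by rw [map_one]; exact cast_charDegree χ.2)

theorem charDegrees_congr {G H : Type*} [Group G] [Group H] (e : G ≃* H) :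
    charDegrees G = charDegrees H :=
  Set.Subset.antisymm (charDegrees_subset_of_surjective e.symm.toMonoidHom e.symm.surjective)
    (charDegrees_subset_of_surjective e.toMonoidHom e.surjective)

theorem mem_charDegrees_PSL {χ : SL(2, F) → ℂ} (h : IsIrrCharacter _ χ) {n : ℕ} (hn : χ 1 = n)
    (h1 : χ (-1) = χ 1) : n ∈ charDegrees (ProjectiveSpecialLinearGroup (Fin 2) F) := by
  obtain ⟨ψ, h2, h3⟩ := H6.exists_irr_quotient h (Subgroup.center SL(2, F)) (fun z hz => by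
    rcases mem_center_iff_neg.1 hz with rfl | rfl
    · rfl
    · exact h1)
  exact mem_charDegrees_of_irr h2 ((h3 1).trans hn)

theorem charDegrees_PSL_subset :
    charDegrees (ProjectiveSpecialLinearGroup (Fin 2) F) ⊆ charDegrees SL(2, F) :=
  charDegrees_subset_of_surjective (QuotientGroup.mk' _) (QuotientGroup.mk'_surjective _)

theorem charDegrees_SL_cases {n : ℕ} (h : n ∈ charDegrees SL(2, F)) :
    n = 1 ∨ n = Fintype.card F ∨ n = Fintype.card F + 1 ∨ n = Fintype.card F - 1 ∨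
      (Odd (Fintype.card F) ∧ (n = (Fintype.card F + 1) / 2 ∨ n = (Fintype.card F - 1) / 2)) := by
  classical
  obtain ⟨K, _, _, _, _, ⟨ι⟩⟩ := exists_quad F
  obtain ⟨χ, rfl⟩ := h
  rcases irrS_cases_nat ι χ.2 (cast_charDegree χ.2) with
    ⟨h, -⟩ | ⟨h, -⟩ | ⟨h, -⟩ | ⟨h, -⟩ | ⟨h, h', -⟩ | ⟨h, h', -⟩ <;> simp only [h] <;> simp [*]

theorem q_mem_charDegrees_PSL :
    Fintype.card F ∈ charDegrees (ProjectiveSpecialLinearGroup (Fin 2) F) :=
  mem_charDegrees_PSL isIrr_stS stS_one (by rw [stS_neg_one, stS_one])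

theorem q_add_one_mem_charDegrees_PSL (h : ¬ Fintype.card F - 1 ∣ 4) :
    Fintype.card F + 1 ∈ charDegrees (ProjectiveSpecialLinearGroup (Fin 2) F) := by
  obtain ⟨α, h1, h2⟩ := exists_mulChar_sq_ne_one h
  exact mem_charDegrees_PSL ((isIrr_psS_iff α).2 h1) (by rw [psS_one]; simp)
    (by rw [psS_neg_one, psS_one, h2, mul_one])

theorem q_sub_one_mem_charDegrees_PSL (h : ¬ Fintype.card F + 1 ∣ 4) :
    Fintype.card F - 1 ∈ charDegrees (ProjectiveSpecialLinearGroup (Fin 2) F) := by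
  classical
  obtain ⟨K, _, _, _, _, ⟨ι⟩⟩ := exists_quad F
  obtain ⟨η, h1, h2⟩ := exists_hom_sq_ne_inv (normOne F K) (by rwa [card_normOne])
  refine mem_charDegrees_PSL (isIrr_cuS ι h1) (by rw [cuS_one, cast_q_sub]) ?_
  rw [cuS_neg_one, cuS_one, h2, Units.val_one, mul_one]
  apply Subtype.ext
  simp [← map_pow]

/-- The degree graph of a group whose degrees `d` are `1`, `q` or divisors of `q ± 1`, with `q`
and `q ± 1` occurring. -/
theorem degreeGraph_of_degrees {S : Type*} [Group S] {t q : ℕ} (ht : t.Prime) (hq : ∃ k, q = t ^ k)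
    (h1 : ∀ d ∈ charDegrees S, d = q ∨ d ∣ q + 1 ∨ d ∣ q - 1) (h2 : q ∈ charDegrees S)
    (h3 : q + 1 ∈ charDegrees S) (h4 : q - 1 ∈ charDegrees S) :
    degreePrimes S = {r : ℕ | r.Prime ∧ r ∣ q * (q ^ 2 - 1)} ∧ ∀ r s : ℕ, (degreeGraph S).Adj r s ↔
      (r ≠ s ∧ r.Prime ∧ s.Prime ∧ ((r ∣ q + 1 ∧ s ∣ q + 1) ∨ (r ∣ q - 1 ∧ s ∣ q - 1))) := by
  have h5 : q ^ 2 - 1 = (q + 1) * (q - 1) := by simpa using Nat.sq_sub_sq q 1
  constructor
  · ext r
    simp only [degreePrimes, Set.mem_ofPred_eq, and_congr_right_iff]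
    intro hr
    rw [h5, hr.dvd_mul, hr.dvd_mul]
    constructor
    · rintro ⟨d, hd, hrd⟩
      rcases h1 d hd with rfl | h | h
      · exact Or.inl hrd
      · exact Or.inr (Or.inl (hrd.trans h))
      · exact Or.inr (Or.inr (hrd.trans h))
    · rintro (h | h | h)
      · exact ⟨_, h2, h⟩
      · exact ⟨_, h3, h⟩
      · exact ⟨_, h4, h⟩
  · intro r s
    change (r ≠ s ∧ r.Prime ∧ s.Prime ∧ ∃ d ∈ charDegrees S, r * s ∣ d) ↔ _
    simp only [and_congr_right_iff]
    intro hrs hr hs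
    have hc : Nat.Coprime r s := (Nat.coprime_primes hr hs).2 hrs
    constructor
    · rintro ⟨d, hd, hrd⟩
      have k1 : r ∣ d := (dvd_mul_right r s).trans hrd
      have k2 : s ∣ d := (dvd_mul_left s r).trans hrd
      rcases h1 d hd with rfl | h | h
      · obtain ⟨k, rfl⟩ := hq
        exact absurd (((Nat.prime_dvd_prime_iff_eq hr ht).1 (hr.dvd_of_dvd_pow k1)).trans
          ((Nat.prime_dvd_prime_iff_eq hs ht).1 (hs.dvd_of_dvd_pow k2)).symm) hrs
      · exact Or.inl ⟨k1.trans h, k2.trans h⟩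
      · exact Or.inr ⟨k1.trans h, k2.trans h⟩
    · rintro (h | h)
      · exact ⟨_, h3, hc.mul_dvd_of_dvd_of_dvd h.1 h.2⟩
      · exact ⟨_, h4, hc.mul_dvd_of_dvd_of_dvd h.1 h.2⟩

theorem degreeGraph_SL (h5 : ¬ Fintype.card F - 1 ∣ 4) (h6 : ¬ Fintype.card F + 1 ∣ 4)
    {S : Type*} [Group S] (hS : Nonempty (S ≃* ProjectiveSpecialLinearGroup (Fin 2) F) ∨
      Nonempty (S ≃* SL(2, F))) {q : ℕ} (hq : Fintype.card F = q) :
    degreePrimes S = {r : ℕ | r.Prime ∧ r ∣ q * (q ^ 2 - 1)} ∧ ∀ r s : ℕ, (degreeGraph S).Adj r s ↔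
      (r ≠ s ∧ r.Prime ∧ s.Prime ∧ ((r ∣ q + 1 ∧ s ∣ q + 1) ∨ (r ∣ q - 1 ∧ s ∣ q - 1))) := by
  subst hq
  obtain ⟨t, _, k, ht, hk⟩ := FiniteField.card' F
  have h1 : charDegrees (ProjectiveSpecialLinearGroup (Fin 2) F) ⊆ charDegrees S ∧
      charDegrees S ⊆ charDegrees SL(2, F) := by
    rcases hS with ⟨⟨e⟩⟩ | ⟨⟨e⟩⟩ <;> rw [charDegrees_congr e]
    · exact ⟨subset_rfl, charDegrees_PSL_subset⟩
    · exact ⟨charDegrees_PSL_subset, subset_rfl⟩
  refine degreeGraph_of_degrees ht ⟨k, hk⟩ (fun d hd => ?_) (h1.1 q_mem_charDegrees_PSL)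
    (h1.1 (q_add_one_mem_charDegrees_PSL h5)) (h1.1 (q_sub_one_mem_charDegrees_PSL h6))
  rcases charDegrees_SL_cases (h1.2 hd) with h | h | h | h | ⟨⟨m, hm⟩, h | h⟩
  · simp [h]
  · simp [h]
  · simp [h]
  · simp [h]
  · exact Or.inr (Or.inl (Dvd.intro 2 (by omega)))
  · exact Or.inr (Or.inr (Dvd.intro 2 (by omega)))

end H62.GL2
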